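import Groth.Agent.HopfRange.Sub
import Mathlib.RingTheory.Jacobson.Ring
import Mathlib.Algebra.Algebra.Subalgebra.Directed
import Mathlib.FieldTheory.IsAlgClosed.Basic
import Mathlib.Order.Zorn

/-!
# Points of arbitrary commutative Hopf algebras over algebraically closed fields
-/

universe u v

open TensorProduct

noncomputable section

namespace Groth.Agent.HopfPoint

variable {k : Type u} [Field k] [IsAlgClosed k] {A : Type v} [CommRing A] [Algebra k A]

/-- A point of a subalgebra extends to a finitely generated enlargement over which it generates a proper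
ideal. -/
theorem extend_fg (C D : Subalgebra k A) (hD : D.FG) (g : C →ₐ[k] k)
    (hg : (RingHom.ker g).map C.val.toRingHom ≠ ⊤) :
    ∃ g' : ↥(C ⊔ D) →ₐ[k] k, g'.comp (Subalgebra.inclusion le_sup_left) = g := by
  let incl : C →ₐ[k] ↥(C ⊔ D) := Subalgebra.inclusion le_sup_left
  have hne : (RingHom.ker g).map incl.toRingHom ≠ ⊤ := by
    intro h
    apply hg
    have := congrArg (Ideal.map (C ⊔ D).val.toRingHom) h
    rw [Ideal.map_map, Ideal.map_top] at this
    exact this
  obtain ⟨M, hM, hJM⟩ := Ideal.exists_le_maximal _ hne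
  haveI := hM
  haveI : Algebra.FiniteType k D := (Subalgebra.fg_iff_finiteType D).1 hD
  let q : ↥(C ⊔ D) →ₐ[k] (↥(C ⊔ D) ⧸ M) := Ideal.Quotient.mkₐ k M
  let ψ : D →ₐ[k] (↥(C ⊔ D) ⧸ M) := q.comp (Subalgebra.inclusion le_sup_right)
  have hC : ∀ c : C, q (incl c) = algebraMap k _ (g c) := fun c => by
    rw [← q.commutes, ← sub_eq_zero, ← map_sub]
    refine Ideal.Quotient.eq_zero_iff_mem.2 (hJM ?_)
    have : incl c - algebraMap k _ (g c) = incl (c - algebraMap k _ (g c)) := by simp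
    rw [this]
    exact Ideal.mem_map_of_mem _ (by simp [RingHom.mem_ker])
  have hψ : Function.Surjective ψ := by
    intro z
    obtain ⟨⟨x, hx⟩, rfl⟩ := Ideal.Quotient.mk_surjective z
    suffices ∀ x, x ∈ Algebra.adjoin k ((C : Set A) ∪ D) → ∀ hx : x ∈ C ⊔ D, q ⟨x, hx⟩ ∈ ψ.range by
      exact this x hx hx
    intro x hx'
    induction hx' using Algebra.adjoin_induction with
    | mem x h =>
      rcases h with h | h
      · intro hx
        exact ⟨algebraMap k D (g ⟨x, h⟩), (ψ.commutes _).trans (hC ⟨x, h⟩).symm⟩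
      · intro hx
        exact ⟨⟨x, h⟩, rfl⟩
    | algebraMap r =>
      intro hx
      exact ⟨algebraMap k D r, (ψ.commutes r).trans (q.commutes r).symm⟩
    | add a b ha hb iha ihb =>
      intro hx
      have := add_mem (iha ha) (ihb hb)
      rw [← map_add] at this
      exact this
    | mul a b ha hb iha ihb =>
      intro hx
      have := mul_mem (iha ha) (ihb hb)
      rw [← map_mul] at this
      exact this
  letI : Field (↥(C ⊔ D) ⧸ M) := Ideal.Quotient.field M
  haveI : Algebra.FiniteType k (↥(C ⊔ D) ⧸ M) := Algebra.FiniteType.of_surjective ψ hψ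
  haveI : Module.Finite k (↥(C ⊔ D) ⧸ M) := finite_of_finite_type_of_isJacobsonRing k _
  haveI : Algebra.IsIntegral k (↥(C ⊔ D) ⧸ M) := Algebra.IsIntegral.of_finite k _
  let e : k ≃ₐ[k] (↥(C ⊔ D) ⧸ M) := AlgEquiv.ofBijective (Algebra.ofId k _)
    IsAlgClosed.algebraMap_bijective_of_isIntegral
  refine ⟨e.symm.toAlgHom.comp q, AlgHom.ext fun c => ?_⟩
  show e.symm (q (incl c)) = g c
  rw [hC, AlgEquiv.commutes]
  rfl

/-- Zorn: points of the members of a family of subalgebras extend. -/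
theorem exists_point_of_family (P : Subalgebra k A → Prop)
    (hff : ∀ C, P C → ∀ m : Ideal C, m ≠ ⊤ → m.map C.val.toRingHom ≠ ⊤)
    (hfg : ∀ a : A, ∃ D : Subalgebra k A, a ∈ D ∧ D.FG ∧ P D)
    (hsup : ∀ C D, P C → P D → P (C ⊔ D))
    (hdir : ∀ (ι : Type (max u v)) [Nonempty ι] (K : ι → Subalgebra k A), Directed (· ≤ ·) K → (∀ i, P (K i)) → P (iSup K))
    (C₀ : Subalgebra k A) (hC₀ : P C₀) (g₀ : C₀ →ₐ[k] k) :
    ∃ g : A →ₐ[k] k, g.comp C₀.val = g₀ := by
  classical
  let T := {p : Σ C : Subalgebra k A, C →ₐ[k] k //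
    P p.1 ∧ ∃ h : C₀ ≤ p.1, p.2.comp (Subalgebra.inclusion h) = g₀}
  let r : T → T → Prop := fun p q => ∃ h : p.1.1 ≤ q.1.1, q.1.2.comp (Subalgebra.inclusion h) = p.1.2
  have htr : ∀ {a b c : T}, r a b → r b c → r a c := by
    rintro a b c ⟨h, e⟩ ⟨h', e'⟩
    refine ⟨h.trans h', ?_⟩
    rw [← e, ← e', AlgHom.comp_assoc]
    rfl
  have hrefl : ∀ a : T, r a a := fun a => ⟨le_rfl, AlgHom.ext fun x => rfl⟩
  let t₀ : T := ⟨⟨C₀, g₀⟩, hC₀, le_rfl, AlgHom.ext fun x => rfl⟩
  obtain ⟨t, ht⟩ : ∃ t : T, ∀ a, r t a → r a t := by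
    refine exists_maximal_of_chains_bounded (fun c hc => ?_) htr
    rcases c.eq_empty_or_nonempty with rfl | ⟨x, hx⟩
    · exact ⟨t₀, fun a ha => ha.elim⟩
    haveI : Nonempty c := ⟨⟨x, hx⟩⟩
    let K : c → Subalgebra k A := fun i => i.1.1.1
    have htot : ∀ i j : c, r i.1 j.1 ∨ r j.1 i.1 := fun i j => by
      rcases eq_or_ne i.1 j.1 with h | h
      · exact Or.inl (h ▸ hrefl _)
      · exact hc i.2 j.2 h
    have hK : Directed (· ≤ ·) K := fun i j => (htot i j).elim
      (fun h => ⟨j, h.1, le_rfl⟩) (fun h => ⟨i, le_rfl, h.1⟩)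
    have hf : ∀ (i j : c) (h : K i ≤ K j), i.1.1.2 = (j.1.1.2).comp (Subalgebra.inclusion h) := by
      intro i j h
      rcases htot i j with ⟨h', e⟩ | ⟨h', e⟩
      · exact e.symm
      · refine AlgHom.ext fun y => ?_
        show i.1.1.2 y = j.1.1.2 (Subalgebra.inclusion h y)
        rw [← e]
        exact congrArg _ (Subtype.ext rfl)
    let gU := Subalgebra.iSupLift K hK (fun i => i.1.1.2) hf (iSup K) le_rfl
    have hle : ∀ i : c, K i ≤ iSup K := fun i => le_iSup K i
    obtain ⟨h0, e0⟩ := x.2.2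
    refine ⟨⟨⟨iSup K, gU⟩, hdir c K hK fun i => i.1.2.1, h0.trans (hle ⟨x, hx⟩), ?_⟩, fun a ha => ⟨hle ⟨a, ha⟩, ?_⟩⟩
    · refine AlgHom.ext fun y => ?_
      have h := Subalgebra.iSupLift_inclusion (K := K) (dir := hK) (f := fun i => i.1.1.2) (hf := hf)
        (hT := le_rfl) (i := (⟨x, hx⟩ : c)) (Subalgebra.inclusion h0 y) (hle ⟨x, hx⟩)
      exact h.trans (AlgHom.congr_fun e0 y)
    · exact AlgHom.ext fun y => Subalgebra.iSupLift_inclusion (K := K) (dir := hK) (f := fun i => i.1.1.2)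
        (hf := hf) (hT := le_rfl) (i := (⟨a, ha⟩ : c)) y (hle ⟨a, ha⟩)
  obtain ⟨⟨C, g⟩, hPC, hC0, hg0⟩ := t
  have htop : ∀ a : A, a ∈ C := by
    intro a
    obtain ⟨D, haD, hD, hPD⟩ := hfg a
    obtain ⟨g', hg'⟩ := extend_fg C D hD g (hff C hPC _ (RingHom.ker_ne_top g))
    have h1 : C₀ ≤ C ⊔ D := hC0.trans le_sup_left
    obtain ⟨h2, -⟩ := ht ⟨⟨C ⊔ D, g'⟩, hsup _ _ hPC hPD, h1, by
      rw [← hg0, ← hg', AlgHom.comp_assoc]; rfl⟩ ⟨le_sup_left, hg'⟩
    exact h2 (le_sup_right (a := C) haD)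
  refine ⟨g.comp ((AlgHom.id k A).codRestrict C htop), AlgHom.ext fun y => ?_⟩
  rw [← hg0]
  rfl

section Hopf

variable {A : Type v} [CommRing A] [HopfAlgebra k A]

open Groth.Agent.FlatSub

omit [IsAlgClosed k] in
theorem isSubHopf_sup {C D : Subalgebra k A} (hC : IsSubHopf k C) (hD : IsSubHopf k D) :
    IsSubHopf k (C ⊔ D) := by
  let B := C ⊔ D
  let R := (Algebra.TensorProduct.map B.val B.val).range
  have hmono : ∀ {E : Subalgebra k A}, E ≤ B → IsSubHopf k E →
      ∀ x ∈ E, Bialgebra.comulAlgHom k A x ∈ R := by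
    intro E hE hEs x hx
    obtain ⟨z, hz⟩ := hEs.1 x hx
    refine ⟨Algebra.TensorProduct.map (Subalgebra.inclusion hE) (Subalgebra.inclusion hE) z, ?_⟩
    rw [Bialgebra.comulAlgHom_apply, ← hz]
    clear hz
    induction z using TensorProduct.induction_on with
    | zero => simp
    | tmul a b => rfl
    | add a b ha hb => simp only [map_add, ha, hb]
  refine ⟨fun b hb => ?_, fun b hb => ?_⟩
  · have : B ≤ R.comap (Bialgebra.comulAlgHom k A) :=
      sup_le (fun x hx => hmono le_sup_left hC x hx) (fun x hx => hmono le_sup_right hD x hx)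
    obtain ⟨t, ht⟩ := this hb
    exact ⟨t, ht⟩
  · have : B ≤ B.comap (HopfAlgebra.antipodeAlgHom k A) :=
      sup_le (fun x hx => le_sup_left (b := D) (hC.2 x hx)) (fun x hx => le_sup_right (a := C) (hD.2 x hx))
    exact this hb

omit [IsAlgClosed k] in
theorem isSubHopf_iSup {ι : Type*} [Nonempty ι] (K : ι → Subalgebra k A) (hK : Directed (· ≤ ·) K)
    (h : ∀ i, IsSubHopf k (K i)) : IsSubHopf k (iSup K) := by
  constructor <;> intro b hb <;> rw [← SetLike.mem_coe, Subalgebra.coe_iSup_of_directed hK, Set.mem_iUnion] at hb <;>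
    obtain ⟨i, hi⟩ := hb
  · obtain ⟨z, hz⟩ := (h i).1 b hi
    refine ⟨TensorProduct.map (Subalgebra.inclusion (le_iSup K i)).toLinearMap
      (Subalgebra.inclusion (le_iSup K i)).toLinearMap z, ?_⟩
    rw [← hz, ← LinearMap.comp_apply, ← TensorProduct.map_comp]
    rfl
  · exact le_iSup K i ((h i).2 b hi)

/-- **Points of a sub-Hopf algebra extend**: over an algebraically closed field, restriction
`G(k) → G'(k)` along an injection of commutative Hopf algebras is surjective. -/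
theorem exists_extend (C : Subalgebra k A) (hC : IsSubHopf k C) (g : C →ₐ[k] k) :
    ∃ G : A →ₐ[k] k, G.comp C.val = g := by
  refine exists_point_of_family (IsSubHopf k) (fun C hC m hm => ?_)
    (fun a => ?_) (fun C D => isSubHopf_sup) (fun ι _ K hK h => isSubHopf_iSup K hK h) C hC g
  · haveI := Groth.Agent.FlatSub.faithfullyFlat hC
    intro htop
    apply hm
    rw [← Ideal.comap_map_eq_self_of_faithfullyFlat (A := C) (B := A) m]
    rw [show m.map (algebraMap C A) = ⊤ from htop, Ideal.comap_top]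
  · obtain ⟨D, hs, hD, hDs⟩ := Groth.Agent.HopfRange.exists_fg_isSubHopf (k := k) ({a} : Finset A)
    exact ⟨D, hs (by simp), hD, hDs⟩

/-- A point of the source of a map with nil kernel lifts. -/
theorem exists_lift {A' : Type v} [CommRing A'] [HopfAlgebra k A'] (f : A' →ₐc[k] A)
    (x : A' →ₐ[k] k) (hx : RingHom.ker (f : A' →ₐ[k] A) ≤ RingHom.ker x) :
    ∃ G : A →ₐ[k] k, G.comp (f : A' →ₐ[k] A) = x := by
  let q := (f : A' →ₐ[k] A).rangeRestrict
  have hq : Function.Surjective q := (f : A' →ₐ[k] A).rangeRestrict_surjective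
  let g : (f : A' →ₐ[k] A).range →ₐ[k] k := AlgHom.liftOfSurjective q hq x (by
    intro a ha
    refine hx ?_
    rw [RingHom.mem_ker] at ha ⊢
    exact congrArg Subtype.val ha)
  obtain ⟨G, hG⟩ := exists_extend _ (Groth.Agent.HopfRange.isSubHopf_range f) g
  refine ⟨G, AlgHom.ext fun a => ?_⟩
  exact (AlgHom.congr_fun hG (q a)).trans (AlgHom.liftOfSurjective_apply q hq x _ a)

/-- Points separate non-nilpotent elements. -/
theorem exists_point_ne_zero {a : A} (ha : ¬IsNilpotent a) : ∃ G : A →ₐ[k] k, G a ≠ 0 := by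
  obtain ⟨D, hs, hD, hDs⟩ := Groth.Agent.HopfRange.exists_fg_isSubHopf (k := k) ({a} : Finset A)
  have haD : a ∈ D := hs (by simp)
  haveI : Algebra.FiniteType k D := (Subalgebra.fg_iff_finiteType D).1 hD
  haveI : IsJacobsonRing D := isJacobsonRing_of_finiteType (A := k)
  obtain ⟨m, hm, ham⟩ : ∃ m : Ideal D, m.IsMaximal ∧ (⟨a, haD⟩ : D) ∉ m := by
    by_contra h
    push Not at h
    apply ha
    have : (⟨a, haD⟩ : D) ∈ (⊥ : Ideal D).jacobson := Ideal.mem_sInf.2 fun {m} hm => h m hm.2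
    rw [← Ideal.radical_eq_jacobson] at this
    exact (mem_nilradical.1 this).map D.val
  haveI := hm
  letI : Field (D ⧸ m) := Ideal.Quotient.field m
  haveI : Algebra.FiniteType k (D ⧸ m) := Algebra.FiniteType.of_surjective (Ideal.Quotient.mkₐ k m) Ideal.Quotient.mk_surjective
  haveI : Module.Finite k (D ⧸ m) := finite_of_finite_type_of_isJacobsonRing k _
  let e : k ≃ₐ[k] (D ⧸ m) := AlgEquiv.ofBijective (Algebra.ofId k _)
    IsAlgClosed.algebraMap_bijective_of_isIntegral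
  obtain ⟨G, hG⟩ := exists_extend D hDs (e.symm.toAlgHom.comp (Ideal.Quotient.mkₐ k m))
  refine ⟨G, ?_⟩
  rw [show G a = e.symm (Ideal.Quotient.mk m ⟨a, haD⟩) from AlgHom.congr_fun hG ⟨a, haD⟩]
  simp [Ideal.Quotient.eq_zero_iff_mem, ham]

end Hopf

end Groth.Agent.HopfPoint
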