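import Groth.Agent.HopfPoint.Basic
import Mathlib.AlgebraicGeometry.Group.Affine
import Mathlib.AlgebraicGeometry.Morphisms.UnderlyingMap

/-!
# Rational points of affine group schemes over algebraically closed fields
-/

universe u

open CategoryTheory MonoidalCategory CartesianMonoidalCategory MonObj AlgebraicGeometry Opposite

set_option backward.isDefEq.respectTransparency false

namespace Groth.Agent.HopfPoint

variable {k : Type u} [Field k] [IsAlgClosed k]

/-- The point of `Spec A` attached to an algebra homomorphism. -/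
noncomputable def spt (A : CommHopfAlgCat.{u} (CommRingCat.of k)) (g : A →ₐ[k] k) :
    𝟙_ (Over (Spec (CommRingCat.of k))) ⟶ ((hopfSpec (CommRingCat.of k)).obj (op A)).X :=
  Over.homMk (Spec.map (CommRingCat.ofHom g.toRingHom)) (by
    show Spec.map _ ≫ Spec.map _ = 𝟙 _
    rw [← Spec.map_comp, ← Spec.map_id]
    congr 1
    ext : 1
    exact g.comp_algebraMap)

omit [IsAlgClosed k] in
/-- Every rational point comes from an algebra homomorphism. -/
theorem exists_spt {A : CommHopfAlgCat.{u} (CommRingCat.of k)}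
    (x : 𝟙_ (Over (Spec (CommRingCat.of k))) ⟶ ((hopfSpec (CommRingCat.of k)).obj (op A)).X) :
    ∃ g, spt A g = x := by
  obtain ⟨φ, hφ⟩ := Spec.map_surjective (show Spec (CommRingCat.of k) ⟶ Spec (CommRingCat.of A) from x.left)
  refine ⟨AlgHom.mk φ.hom fun c => ?_, Over.OverMorphism.ext hφ⟩
  have h : Spec.map (CommRingCat.ofHom (algebraMap k A) ≫ φ) = Spec.map (𝟙 (CommRingCat.of k)) := by
    rw [Spec.map_comp, hφ, Spec.map_id]
    exact Over.w x
  exact RingHom.congr_fun (congrArg CommRingCat.Hom.hom (Spec.map_injective h)) c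

/-- A surjective homomorphism of affine group schemes is surjective on rational points. -/
theorem surjective_points {G G' : Over (Spec (CommRingCat.of k))} [GrpObj G] [GrpObj G'] [IsAffine G.left]
    [IsAffine G'.left] (h : G ⟶ G') [IsMonHom h] (hs : Surjective h.left)
    (x : 𝟙_ (Over (Spec (CommRingCat.of k))) ⟶ G') :
    ∃ g : 𝟙_ (Over (Spec (CommRingCat.of k))) ⟶ G, g ≫ h = x := by
  obtain ⟨⟨A⟩, ⟨e⟩⟩ : (hopfSpec (CommRingCat.of k)).essImage (Grp.mk G) := essImage_hopfSpec.mpr ‹_›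
  obtain ⟨⟨A'⟩, ⟨e'⟩⟩ : (hopfSpec (CommRingCat.of k)).essImage (Grp.mk G') := essImage_hopfSpec.mpr ‹_›
  obtain ⟨f, hf⟩ : ∃ f, (hopfSpec (CommRingCat.of k)).map f = e.hom ≫ Grp.homMk h ≫ e'.inv :=
    ⟨_, hopfSpec.fullyFaithful.map_preimage _⟩
  obtain ⟨y, hy⟩ := exists_spt (x ≫ e'.inv.hom.hom)
  let φ : A' →ₐc[k] A := f.unop.hom
  have hmap : ((hopfSpec (CommRingCat.of k)).map f).hom.hom.left =
      Spec.map (CommRingCat.ofHom (φ : A' →ₐ[k] A).toRingHom) := rfl
  have he : e.hom.hom.hom ≫ h ≫ e'.inv.hom.hom = ((hopfSpec (CommRingCat.of k)).map f).hom.hom :=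
    (congrArg (fun q => q.hom.hom) hf).symm
  haveI : IsIso e.hom.hom.hom := inferInstanceAs (IsIso ((Grp.forget _).map e.hom))
  haveI : IsIso e'.inv.hom.hom := inferInstanceAs (IsIso ((Grp.forget _).map e'.inv))
  have hsurj : Surjective (Spec.map (CommRingCat.ofHom (φ : A' →ₐ[k] A).toRingHom)) := by
    rw [← hmap, ← he]
    haveI : IsIso e.hom.hom.hom.left := inferInstanceAs (IsIso ((Over.forget _).map e.hom.hom.hom))
    haveI : IsIso e'.inv.hom.hom.left := inferInstanceAs (IsIso ((Over.forget _).map e'.inv.hom.hom))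
    show Surjective (e.hom.hom.hom.left ≫ h.left ≫ e'.inv.hom.hom.left)
    infer_instance
  have hker : RingHom.ker (φ : A' →ₐ[k] A) ≤ RingHom.ker y := by
    intro a ha
    have hy' : (RingHom.ker y).IsPrime := RingHom.ker_isPrime y
    obtain ⟨p, hp⟩ := hsurj.surj (⟨_, hy'⟩ : PrimeSpectrum A')
    have : a ∈ p.asIdeal.comap (φ : A' →ₐ[k] A).toRingHom := by
      rw [Ideal.mem_comap, show (φ : A' →ₐ[k] A).toRingHom a = 0 from ha]
      exact zero_mem _
    have hp' : p.asIdeal.comap (φ : A' →ₐ[k] A).toRingHom = RingHom.ker y := congrArg PrimeSpectrum.asIdeal hp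
    exact hp' ▸ this
  obtain ⟨g, hg⟩ := exists_lift φ y hker
  refine ⟨spt A g ≫ e.hom.hom.hom, ?_⟩
  rw [← cancel_mono e'.inv.hom.hom, Category.assoc, Category.assoc, he, ← hy]
  refine Over.OverMorphism.ext ?_
  show Spec.map _ ≫ Spec.map _ = Spec.map _
  rw [← Spec.map_comp, ← hg]
  rfl

/-- Rational points are dense. -/
theorem dense_points {G : Over (Spec (CommRingCat.of k))} [GrpObj G] [IsAffine G.left] :
    Dense {x : ↥G.left | ∃ g : 𝟙_ (Over (Spec (CommRingCat.of k))) ⟶ G,
      g.left.base (IsLocalRing.closedPoint k) = x} := by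
  obtain ⟨⟨A⟩, ⟨e⟩⟩ : (hopfSpec (CommRingCat.of k)).essImage (Grp.mk G) := essImage_hopfSpec.mpr ‹_›
  haveI : IsIso e.hom.hom.hom := inferInstanceAs (IsIso ((Grp.forget _).map e.hom))
  haveI : IsIso e.hom.hom.hom.left := inferInstanceAs (IsIso ((Over.forget _).map e.hom.hom.hom))
  rw [dense_iff_inter_open]
  rintro U hU ⟨z, hz⟩
  let E : Spec (CommRingCat.of A) ⟶ G.left := e.hom.hom.hom.left
  obtain ⟨p, hp⟩ := (inferInstanceAs (Surjective e.hom.hom.hom.left) : Surjective E).surj z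
  obtain ⟨_, ⟨a, rfl⟩, hpa, haU⟩ := PrimeSpectrum.isTopologicalBasis_basic_opens.exists_subset_of_mem_open
    (show p ∈ E.base ⁻¹' U from show E.base p ∈ U by rw [hp]; exact hz) (hU.preimage E.base.hom.continuous)
  obtain ⟨g, hg⟩ := exists_point_ne_zero (k := k) (A := A) (a := a) fun h => hpa (p.isPrime.mem_of_pow_mem _
    (h.choose_spec ▸ zero_mem _))
  let q : Spec (CommRingCat.of A) := ⟨RingHom.ker g, RingHom.ker_isPrime g⟩
  refine ⟨E.base q, haU (show a ∉ RingHom.ker g from hg), spt A g ≫ e.hom.hom.hom, ?_⟩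
  show E.base ((Spec.map (CommRingCat.ofHom g.toRingHom)).base (IsLocalRing.closedPoint k)) = E.base q
  congr 1
  refine PrimeSpectrum.ext ?_
  show Ideal.comap g.toRingHom (IsLocalRing.maximalIdeal k) = RingHom.ker g
  rw [IsLocalRing.maximalIdeal_eq_bot]
  rfl

end Groth.Agent.HopfPoint
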