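import Groth.Agent.HopfPoint.Basic
import Mathlib.RingTheory.HopfAlgebra.Convolution
import Mathlib.RingTheory.Flat.FaithfullyFlat.Algebra

/-!
# Points of torsors under arbitrary affine group schemes over algebraically closed fields
-/

universe u v

open TensorProduct WithConv

noncomputable section

namespace Groth.Agent.HopfPoint

section general

variable {k : Type u} [Field k] {B N : Type v} [CommRing B] [Algebra k B] [CommRing N] [Algebra k N]
  [Nontrivial N]

/-- `x ⊗ N` inside `B ⊗ N`. -/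
abbrev TS (N : Type v) [CommRing N] [Algebra k N] (X : Subalgebra k B) : Subalgebra k (B ⊗[k] N) :=
  (Algebra.TensorProduct.map X.val (AlgHom.id k N)).range

omit [Nontrivial N] in
theorem map_val_injective (X : Subalgebra k B) :
    Function.Injective (Algebra.TensorProduct.map X.val (AlgHom.id k N)) :=
  Module.Flat.rTensor_preserves_injective_linearMap X.val.toLinearMap Subtype.val_injective

omit [Nontrivial N] in
theorem TS_mono {X Y : Subalgebra k B} (h : X ≤ Y) : TS N X ≤ TS N Y := by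
  rintro _ ⟨z, rfl⟩
  refine ⟨Algebra.TensorProduct.map (Subalgebra.inclusion h) (AlgHom.id k N) z, ?_⟩
  induction z using TensorProduct.induction_on with
  | zero => simp
  | tmul a b => rfl
  | add a b ha hb => simp only [map_add, ha, hb]

theorem mem_of_tmul_one_mem {X : Subalgebra k B} {b : B} (h : b ⊗ₜ[k] (1 : N) ∈ TS N X) : b ∈ X := by
  obtain ⟨θ, hθ⟩ := Module.Projective.exists_dual_ne_zero k (one_ne_zero (α := N))
  let L : B ⊗[k] N →ₗ[k] B := (TensorProduct.rid k B).toLinearMap ∘ₗ θ.lTensor B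
  have hL : ∀ z ∈ TS N X, L z ∈ X := by
    rintro _ ⟨z, rfl⟩
    induction z using TensorProduct.induction_on with
    | zero => simp
    | tmul x n =>
      show L ((x : B) ⊗ₜ n) ∈ X
      simp only [L, LinearMap.comp_apply, LinearEquiv.coe_coe, LinearMap.lTensor_tmul, TensorProduct.rid_tmul]
      exact X.smul_mem x.2 _
    | add a c ha hc => simp only [map_add]; exact add_mem ha hc
  have h' := hL _ h
  simp only [L, LinearMap.comp_apply, LinearEquiv.coe_coe, LinearMap.lTensor_tmul, TensorProduct.rid_tmul] at h'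
  simpa [smul_smul, inv_mul_cancel₀ hθ] using X.smul_mem h' (θ 1)⁻¹

theorem le_of_TS_le {X Y : Subalgebra k B} (h : TS N X ≤ TS N Y) : X ≤ Y := fun b hb =>
  mem_of_tmul_one_mem (h ⟨(⟨b, hb⟩ : X) ⊗ₜ 1, rfl⟩)

omit [Nontrivial N] in
theorem TS_sup_le (X Y : Subalgebra k B) : TS N (X ⊔ Y) ≤ TS N X ⊔ TS N Y := by
  let incl : B →ₐ[k] B ⊗[k] N := Algebra.TensorProduct.includeLeft
  have h1 : X ⊔ Y ≤ (TS N X ⊔ TS N Y).comap incl :=
    sup_le (fun b hb => le_sup_left (b := TS N Y) ⟨(⟨b, hb⟩ : X) ⊗ₜ 1, rfl⟩)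
      (fun b hb => le_sup_right (a := TS N X) ⟨(⟨b, hb⟩ : Y) ⊗ₜ 1, rfl⟩)
  rintro _ ⟨z, rfl⟩
  induction z using TensorProduct.induction_on with
  | zero => simp
  | tmul x n =>
    have : (Algebra.TensorProduct.map (X ⊔ Y).val (AlgHom.id k N)) (x ⊗ₜ n) =
        incl x * Algebra.TensorProduct.map (X).val (AlgHom.id k N) (1 ⊗ₜ n) := by simp [incl]
    show Algebra.TensorProduct.map (X ⊔ Y).val (AlgHom.id k N) (x ⊗ₜ n) ∈ TS N X ⊔ TS N Y
    rw [this]
    exact mul_mem (h1 x.2) (le_sup_left (b := TS N Y) ⟨_, rfl⟩)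
  | add a c ha hc => simp only [map_add]; exact add_mem ha hc

end general

section torsor

variable {k : Type u} [Field k] {A B : Type v} [CommRing A] [HopfAlgebra k A] [CommRing B] [Algebra k B]
  (ρ : B →ₐ[k] A ⊗[k] B)

/-- The action on points. -/
def act {R : Type v} [CommRing R] [Algebra k R] (g : A →ₐ[k] R) (p : B →ₐ[k] R) : B →ₐ[k] R :=
  (Algebra.TensorProduct.lift g p fun _ _ => .all _ _).comp ρ

theorem comp_act {R R' : Type v} [CommRing R] [Algebra k R] [CommRing R'] [Algebra k R'] (f : R →ₐ[k] R')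
    (g : A →ₐ[k] R) (p : B →ₐ[k] R) : f.comp (act ρ g p) = act ρ (f.comp g) (f.comp p) := by
  rw [act, act, ← AlgHom.comp_assoc]
  congr 1
  ext <;> simp

variable
  (hassoc : ∀ (R : Type v) [CommRing R] [Algebra k R] (g h : A →ₐ[k] R) (p : B →ₐ[k] R),
    act ρ (ofConv (toConv g * toConv h)) p = act ρ g (act ρ h p))
  (hbij : ∀ (R : Type v) [CommRing R] [Algebra k R] (p q : B →ₐ[k] R), ∃! g : A →ₐ[k] R, act ρ g p = q)

/-- The shear map. -/
def shear : B ⊗[k] B →ₐ[k] A ⊗[k] B :=
  Algebra.TensorProduct.lift ρ Algebra.TensorProduct.includeRight fun _ _ => .all _ _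

theorem shear_tmul (b b' : B) : shear ρ (b ⊗ₜ b') = ρ b * (1 ⊗ₜ b') := by simp [shear]

include hbij in
theorem shear_bijective : Function.Bijective (shear ρ) := by
  let iR : B →ₐ[k] B ⊗[k] B := Algebra.TensorProduct.includeRight
  let iR' : B →ₐ[k] A ⊗[k] B := Algebra.TensorProduct.includeRight
  let iA : A →ₐ[k] A ⊗[k] B := Algebra.TensorProduct.includeLeft
  let iL : B →ₐ[k] B ⊗[k] B := Algebra.TensorProduct.includeLeft
  obtain ⟨g0, hg0, -⟩ := hbij (B ⊗[k] B) iR iL
  let Ψ : A ⊗[k] B →ₐ[k] B ⊗[k] B := Algebra.TensorProduct.lift g0 iR fun _ _ => .all _ _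
  have h1 : Ψ.comp (shear ρ) = AlgHom.id k _ := by
    refine Algebra.TensorProduct.ext' fun b b' => ?_
    rw [AlgHom.comp_apply, shear_tmul, map_mul, AlgHom.id_apply,
      show Ψ (ρ b) = b ⊗ₜ 1 from AlgHom.congr_fun hg0 b]
    simp [Ψ, iR]
  have hs : (shear ρ).comp iR = iR' := AlgHom.ext fun b => by simp [iR, iR', shear_tmul]
  have hid : Algebra.TensorProduct.lift iA iR' (fun _ _ => .all _ _) = AlgHom.id k _ :=
    Algebra.TensorProduct.ext' fun a b => by simp [iA, iR']
  have h2 : (shear ρ).comp g0 = iA := by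
    obtain ⟨g, -, hu⟩ := hbij (A ⊗[k] B) iR' ρ
    rw [hu iA (by simp only [act, hid, AlgHom.id_comp])]
    refine hu _ ?_
    show act ρ ((shear ρ).comp g0) iR' = ρ
    rw [← hs, ← comp_act, hg0]
    exact AlgHom.ext fun b => by simp [iL, shear_tmul, ← Algebra.TensorProduct.one_def]
  have h3 : (shear ρ).comp Ψ = AlgHom.id k _ := by
    refine Algebra.TensorProduct.ext' fun a b => ?_
    rw [AlgHom.comp_apply, show Ψ (a ⊗ₜ b) = g0 a * (1 ⊗ₜ b) by simp [Ψ, iR], map_mul, shear_tmul,
      show shear ρ (g0 a) = iA a from AlgHom.congr_fun h2 a]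
    simp [iA]
  exact Function.bijective_iff_has_inverse.2 ⟨Ψ, AlgHom.congr_fun h1, AlgHom.congr_fun h3⟩

/-- The functions on the torsor coming from the quotient attached to `C`. -/
def BC (C : Subalgebra k A) : Subalgebra k B := (TS B C).comap ρ

include hassoc hbij in
theorem shear_TS_BC {C : Subalgebra k A} (hC : Groth.Agent.FlatSub.IsSubHopf k C) :
    (TS B (BC ρ C)).map (shear ρ) = TS B C := by
  apply le_antisymm
  · rintro _ ⟨_, ⟨z, rfl⟩, rfl⟩
    induction z using TensorProduct.induction_on with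
    | zero => simp
    | tmul x b =>
      show shear ρ ((x : B) ⊗ₜ b) ∈ TS B C
      rw [shear_tmul]
      exact mul_mem x.2 ⟨1 ⊗ₜ b, by simp⟩
    | add a c ha hc => simp only [map_add]; exact add_mem ha hc
  intro y hy
  have hbj := shear_bijective ρ hbij
  obtain ⟨x, rfl⟩ := hbj.2 y
  refine ⟨x, ?_, rfl⟩
  let iA : A →ₐ[k] A ⊗[k] (A ⊗[k] B) := Algebra.TensorProduct.includeLeft
  let jR : A ⊗[k] B →ₐ[k] A ⊗[k] (A ⊗[k] B) := Algebra.TensorProduct.includeRight
  let iA2 : A →ₐ[k] A ⊗[k] (A ⊗[k] B) := jR.comp Algebra.TensorProduct.includeLeft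
  let iB : B →ₐ[k] A ⊗[k] (A ⊗[k] B) := jR.comp Algebra.TensorProduct.includeRight
  let gh : A →ₐ[k] A ⊗[k] (A ⊗[k] B) := ofConv (toConv iA * toConv iA2)
  let Dlt : A ⊗[k] B →ₐ[k] A ⊗[k] (A ⊗[k] B) := Algebra.TensorProduct.lift gh iB fun _ _ => .all _ _
  have hΔ : Dlt.comp ρ = (Algebra.TensorProduct.map (AlgHom.id k A) ρ).comp ρ := by
    show act ρ gh iB = _
    rw [hassoc, show act ρ iA2 iB = jR.comp ρ by
      rw [← comp_act, act, show Algebra.TensorProduct.lift (Algebra.TensorProduct.includeLeft (S := k) (A := A) (B := B))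
        Algebra.TensorProduct.includeRight (fun _ _ => .all _ _) = AlgHom.id k _ from
          Algebra.TensorProduct.ext' fun a b => by simp, AlgHom.id_comp], act]
    congr 1
    exact Algebra.TensorProduct.ext' fun a b => by simp [iA, jR]
  let W : A ⊗[k] (B ⊗[k] B) →ₐ[k] A ⊗[k] (A ⊗[k] B) := Algebra.TensorProduct.map (AlgHom.id k A) (shear ρ)
  let R' : B ⊗[k] B →ₐ[k] A ⊗[k] (B ⊗[k] B) :=
    Algebra.TensorProduct.lift ((Algebra.TensorProduct.map (AlgHom.id k A) Algebra.TensorProduct.includeLeft).comp ρ)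
      ((Algebra.TensorProduct.includeRight).comp Algebra.TensorProduct.includeRight) fun _ _ => .all _ _
  have hW : W.comp R' = Dlt.comp (shear ρ) := by
    refine Algebra.TensorProduct.ext' fun b b' => ?_
    rw [AlgHom.comp_apply, AlgHom.comp_apply, shear_tmul, map_mul Dlt, show Dlt (ρ b) = _ from AlgHom.congr_fun hΔ b]
    have e1 : R' (b ⊗ₜ b') = Algebra.TensorProduct.map (AlgHom.id k A) Algebra.TensorProduct.includeLeft (ρ b) *
        (1 ⊗ₜ (1 ⊗ₜ b')) := by simp [R']
    rw [e1, map_mul]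
    congr 1
    · show W _ = Algebra.TensorProduct.map (AlgHom.id k A) ρ (ρ b)
      rw [show Algebra.TensorProduct.map (AlgHom.id k A) ρ = W.comp
        (Algebra.TensorProduct.map (AlgHom.id k A) Algebra.TensorProduct.includeLeft) from
          Algebra.TensorProduct.ext' fun a c => by simp [W, shear_tmul, ← Algebra.TensorProduct.one_def]]
      rfl
    · simp [W, Dlt, iB, jR, shear_tmul]
  have hWinj : Function.Injective W := Module.Flat.lTensor_preserves_injective_linearMap _ hbj.1
  let S' : Subalgebra k (A ⊗[k] (B ⊗[k] B)) := TS (B ⊗[k] B) C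
  have hRx : R' x ∈ S' := by
    obtain ⟨z, hz⟩ := hy
    have : W (R' x) ∈ S'.map W := by
      rw [← AlgHom.comp_apply, hW, AlgHom.comp_apply, ← hz]
      clear hz
      have hW' : ∀ (c : A), c ∈ C → ∀ (t : A ⊗[k] B), c ⊗ₜ[k] t ∈ S'.map W := by
        intro c hc t
        obtain ⟨s, rfl⟩ := hbj.2 t
        exact ⟨c ⊗ₜ s, ⟨(⟨c, hc⟩ : C) ⊗ₜ s, rfl⟩, by simp [W]⟩
      induction z using TensorProduct.induction_on with
      | zero => simp
      | tmul c b =>
        show Dlt ((c : A) ⊗ₜ b) ∈ S'.map W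
        simp only [Dlt, Algebra.TensorProduct.lift_tmul]
        refine mul_mem ?_ ?_
        · obtain ⟨t, ht⟩ := hC.1 c c.2
          show gh c ∈ _
          simp only [gh, AlgHom.convMul_def, ofConv_toConv, AlgHom.comp_apply, Bialgebra.comulAlgHom_apply, ← ht]
          clear ht
          induction t using TensorProduct.induction_on with
          | zero => simp
          | tmul c₁ c₂ =>
            have := hW' c₁ c₁.2 ((c₂ : A) ⊗ₜ 1)
            simpa [iA, iA2, jR] using this
          | add a c ha hc => simp only [map_add]; exact add_mem ha hc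
        · simpa [iB, jR] using hW' 1 C.one_mem (1 ⊗ₜ b)
      | add a c ha hc => simp only [map_add]; exact add_mem ha hc
    obtain ⟨s, hs, hs'⟩ := this
    exact hWinj hs' ▸ hs
  let q : A ⊗[k] B →ₗ[k] (A ⊗[k] B) ⧸ (TS B C).toSubmodule := Submodule.mkQ _
  let φ : B →ₗ[k] (A ⊗[k] B) ⧸ (TS B C).toSubmodule := q ∘ₗ ρ.toLinearMap
  have hfact : ∀ z : B ⊗[k] B, φ.rTensor B z = q.rTensor B ((TensorProduct.assoc k A B B).symm (R' z)) := by
    intro z
    induction z using TensorProduct.induction_on with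
    | zero => simp
    | tmul b b' =>
      simp only [φ, LinearMap.rTensor_tmul, LinearMap.comp_apply, AlgHom.toLinearMap_apply, R',
        Algebra.TensorProduct.lift_tmul, AlgHom.comp_apply]
      generalize ρ b = w
      induction w using TensorProduct.induction_on with
      | zero => simp
      | tmul a c => simp
      | add a c ha hc => simp only [map_add, add_mul, TensorProduct.add_tmul, ha, hc]
    | add a c ha hc => simp only [map_add, ha, hc]
  have hx0 : φ.rTensor B x = 0 := by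
    rw [hfact]
    obtain ⟨z, hz⟩ := hRx
    rw [← hz]
    clear hz
    induction z using TensorProduct.induction_on with
    | zero => simp
    | tmul c t =>
      induction t using TensorProduct.induction_on with
      | zero => simp
      | tmul b b' =>
        show q.rTensor B ((TensorProduct.assoc k A B B).symm ((c : A) ⊗ₜ (b ⊗ₜ b'))) = 0
        rw [TensorProduct.assoc_symm_tmul, LinearMap.rTensor_tmul,
          show q ((c : A) ⊗ₜ b) = 0 from (Submodule.Quotient.mk_eq_zero _).2 ⟨c ⊗ₜ b, rfl⟩, TensorProduct.zero_tmul]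
      | add a d ha hd => simp only [TensorProduct.tmul_add, map_add, ha, hd, add_zero]
    | add a c ha hc => simp only [map_add, ha, hc, add_zero]
  have hker : LinearMap.ker φ = (BC ρ C).toSubmodule := by
    ext b
    show q (ρ b) = 0 ↔ b ∈ BC ρ C
    exact Submodule.Quotient.mk_eq_zero _
  have hex : Function.Exact (BC ρ C).val.toLinearMap φ := by
    intro b
    rw [← LinearMap.mem_ker, hker]
    exact ⟨fun h => ⟨⟨b, h⟩, rfl⟩, fun ⟨y, hy⟩ => hy ▸ y.2⟩
  obtain ⟨z, hz⟩ := (Module.Flat.rTensor_exact B hex x).1 hx0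
  exact ⟨z, hz⟩

variable [Nontrivial B] [IsAlgClosed k]

include hassoc hbij in
/-- **Torsors under affine group schemes over algebraically closed fields have points.** -/
theorem exists_point_torsor : Nonempty (B →ₐ[k] k) := by
  classical
  have hbj := shear_bijective ρ hbij
  have hI : ∀ {X Y : Subalgebra k B}, (TS B X).map (shear ρ) ≤ (TS B Y).map (shear ρ) → X ≤ Y := by
    intro X Y h
    refine le_of_TS_le (N := B) fun z hz => ?_
    obtain ⟨z', hz', e⟩ := h ⟨z, hz, rfl⟩
    exact hbj.1 e ▸ hz'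
  have hmono : ∀ {C D : Subalgebra k A}, C ≤ D → BC ρ C ≤ BC ρ D := fun h b hb => TS_mono h hb
  have hrefl : ∀ {C D : Subalgebra k A}, Groth.Agent.FlatSub.IsSubHopf k C → Groth.Agent.FlatSub.IsSubHopf k D →
      BC ρ C ≤ BC ρ D → C ≤ D := by
    intro C D hC hD h
    refine le_of_TS_le (N := B) ?_
    rw [← shear_TS_BC ρ hassoc hbij hC, ← shear_TS_BC ρ hassoc hbij hD]
    exact Subalgebra.map_mono (TS_mono h)
  let P : Subalgebra k B → Prop := fun X => ∃ C, Groth.Agent.FlatSub.IsSubHopf k C ∧ X = BC ρ C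
  have hbot : Groth.Agent.FlatSub.IsSubHopf k (⊥ : Subalgebra k A) := by
    refine ⟨fun b hb => ?_, fun b hb => ?_⟩ <;> obtain ⟨r, rfl⟩ := Algebra.mem_bot.1 hb
    · refine ⟨algebraMap k _ r, ?_⟩
      rw [← Bialgebra.comulAlgHom_apply, AlgHom.commutes]
      exact (Algebra.TensorProduct.map (⊥ : Subalgebra k A).val (⊥ : Subalgebra k A).val).commutes r
    · rw [← HopfAlgebra.antipodeAlgHom_apply, AlgHom.commutes]
      exact Subalgebra.algebraMap_mem _ r
  have hB0 : BC ρ ⊥ = ⊥ := by
    refine le_bot_iff.1 (hI ?_)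
    rw [shear_TS_BC ρ hassoc hbij hbot]
    rintro _ ⟨z, rfl⟩
    induction z using TensorProduct.induction_on with
    | zero => simp
    | tmul c b =>
      obtain ⟨r, hr⟩ := Algebra.mem_bot.1 c.2
      refine ⟨algebraMap k B r ⊗ₜ b, ⟨algebraMap k (⊥ : Subalgebra k B) r ⊗ₜ b, rfl⟩, ?_⟩
      show shear ρ (algebraMap k B r ⊗ₜ b) = (c : A) ⊗ₜ b
      rw [shear_tmul, AlgHom.commutes, ← hr, Algebra.TensorProduct.algebraMap_apply,
        Algebra.TensorProduct.tmul_mul_tmul, mul_one, one_mul]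
    | add a c ha hc => simp only [map_add]; exact add_mem ha hc
  refine ⟨Exists.choose (exists_point_of_family P ?_ ?_ ?_ ?_ (BC ρ ⊥) ⟨⊥, hbot, rfl⟩
    ((Algebra.botEquiv k B).toAlgHom.comp (Subalgebra.inclusion hB0.le)))⟩
  · rintro _ ⟨C, hC, rfl⟩ m hm htop
    apply hm
    let X := BC ρ C
    let φ : X ⊗[k] B →ₐ[k] A ⊗[k] B := (shear ρ).comp (Algebra.TensorProduct.map X.val (AlgHom.id k B))
    have hφ : φ.range = TS B C := by
      rw [show φ.range = (TS B X).map (shear ρ) from AlgHom.range_comp _ _, shear_TS_BC ρ hassoc hbij hC]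
    let j : C ⊗[k] B →ₐ[k] A ⊗[k] B := Algebra.TensorProduct.map C.val (AlgHom.id k B)
    let E : X ⊗[k] B ≃ₐ[k] C ⊗[k] B :=
      ((AlgEquiv.ofInjective φ (hbj.1.comp (map_val_injective X))).trans (Subalgebra.equivOfEq _ _ hφ)).trans
        (AlgEquiv.ofInjective j (map_val_injective C)).symm
    have hE : ∀ z, j (E z) = φ z := fun z =>
      congrArg Subtype.val ((AlgEquiv.ofInjective j (map_val_injective C)).apply_symm_apply _)
    let iX : X →ₐ[k] X ⊗[k] B := Algebra.TensorProduct.includeLeft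
    let J : Ideal (C ⊗[k] B) := m.map (E.toAlgHom.comp iX).toRingHom
    have hJA : J.map j.toRingHom = ⊤ := by
      have h1 : (j.comp (E.toAlgHom.comp iX)).toRingHom = ρ.toRingHom.comp X.val.toRingHom := by
        refine RingHom.ext fun x => (hE _).trans ?_
        show shear ρ ((x : B) ⊗ₜ (1 : B)) = ρ x
        rw [shear_tmul, ← Algebra.TensorProduct.one_def, mul_one]
      rw [Ideal.map_map, show j.toRingHom.comp (E.toAlgHom.comp iX).toRingHom = _ from h1, ← Ideal.map_map,
        show m.map X.val.toRingHom = ⊤ from htop, Ideal.map_top]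
    have hJ : J = ⊤ := by
      haveI := Groth.Agent.FlatSub.faithfullyFlat hC
      let S := C ⊗[k] B
      let T := S ⊗[C] A
      have hcomm : ∀ x y : T, Commute x y := fun x y => mul_comm x y
      let toT : A ⊗[k] B →ₐ[k] T :=
        Algebra.TensorProduct.lift ((Algebra.TensorProduct.includeRight : A →ₐ[C] T).restrictScalars k)
          (((Algebra.TensorProduct.includeLeft : S →ₐ[C] T).restrictScalars k).comp
            Algebra.TensorProduct.includeRight) fun _ _ => hcomm _ _
      have h2 : toT.toRingHom.comp j.toRingHom = algebraMap S T := by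
        have h3 : toT.comp j = (Algebra.TensorProduct.includeLeft : S →ₐ[C] T).restrictScalars k := by
          refine Algebra.TensorProduct.ext' fun c b => ?_
          simp only [toT, j, AlgHom.comp_apply, Algebra.TensorProduct.map_tmul, Algebra.TensorProduct.lift_tmul,
            AlgHom.restrictScalars_apply, Algebra.TensorProduct.includeRight_apply,
            Algebra.TensorProduct.includeLeft_apply, AlgHom.id_apply, Subalgebra.val_apply]
          rw [show (c : A) = c • (1 : A) from (by simp [Algebra.smul_def]),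
            ← TensorProduct.smul_tmul, Algebra.TensorProduct.tmul_mul_tmul, mul_one]
          exact congrArg (fun s : S => s ⊗ₜ[C] (1 : A)) (show c • (1 : S) * ((1 : C) ⊗ₜ[k] b) = c ⊗ₜ b by rw [smul_mul_assoc, one_mul, TensorProduct.smul_tmul', smul_eq_mul, mul_one])
        exact congrArg AlgHom.toRingHom h3
      have hT : J.map (toT.toRingHom.comp j.toRingHom) = ⊤ := by rw [← Ideal.map_map, hJA, Ideal.map_top]
      rw [h2] at hT
      rw [← Ideal.comap_map_eq_self_of_faithfullyFlat (A := S) (B := T) J, hT, Ideal.comap_top]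
    have hXB : m.map iX.toRingHom = ⊤ := by
      have := congrArg (Ideal.map E.symm.toAlgHom.toRingHom) hJ
      rw [Ideal.map_map, Ideal.map_top] at this
      rw [← this]
      congr 1
      exact RingHom.ext fun x => (E.symm_apply_apply _).symm
    rw [← Ideal.comap_map_eq_self_of_faithfullyFlat (A := X) (B := X ⊗[k] B) m,
      show m.map (algebraMap X (X ⊗[k] B)) = ⊤ from hXB, Ideal.comap_top]
  · intro a
    obtain ⟨S, hS⟩ : ∃ S : Finset (A × B), ρ a = ∑ i ∈ S, i.1 ⊗ₜ i.2 := TensorProduct.exists_finset _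
    obtain ⟨D, hs, hD, hDs⟩ := Groth.Agent.HopfRange.exists_fg_isSubHopf (k := k) (S.image Prod.fst)
    have haD : a ∈ BC ρ D := by
      show ρ a ∈ TS B D
      rw [hS]
      exact Subalgebra.sum_mem _ fun i hi =>
        ⟨(⟨i.1, hs (by simp only [Finset.coe_image, Set.mem_image]; exact ⟨i, hi, rfl⟩)⟩ : D) ⊗ₜ i.2, rfl⟩
    obtain ⟨G, hG⟩ := hD
    have hgen : ∀ g ∈ G, ∃ Z : Finset (B × B),
        (∀ i ∈ Z, i.1 ∈ BC ρ D) ∧ shear ρ (∑ i ∈ Z, i.1 ⊗ₜ[k] i.2) = g ⊗ₜ 1 := by
      intro g hg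
      have : g ⊗ₜ[k] (1 : B) ∈ (TS B (BC ρ D)).map (shear ρ) := by
        rw [shear_TS_BC ρ hassoc hbij hDs]
        exact ⟨(⟨g, hG ▸ Algebra.subset_adjoin hg⟩ : D) ⊗ₜ 1, rfl⟩
      obtain ⟨_, ⟨z, rfl⟩, hz⟩ := this
      obtain ⟨Z, rfl⟩ := TensorProduct.exists_finset z
      refine ⟨Z.image fun i => ((i.1 : B), i.2), fun i hi => ?_, ?_⟩
      · obtain ⟨j, -, rfl⟩ := Finset.mem_image.1 hi
        exact j.1.2
      · rw [← hz, Finset.sum_image (fun i _ j _ h => by
          simp only [Prod.mk.injEq] at h; exact Prod.ext (Subtype.ext h.1) h.2)]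
        simp
    choose Z hZ hZ' using hgen
    let F : Finset B := insert a (G.attach.biUnion fun g => (Z g.1 g.2).image Prod.fst)
    refine ⟨BC ρ D, haD, ⟨F, le_antisymm ?_ (hI ?_)⟩, D, hDs, rfl⟩
    · refine Algebra.adjoin_le ?_
      intro b hb
      rcases Finset.mem_insert.1 hb with rfl | hb
      · exact haD
      · obtain ⟨g, -, hg⟩ := Finset.mem_biUnion.1 hb
        obtain ⟨i, hi, rfl⟩ := Finset.mem_image.1 hg
        exact hZ _ _ i hi
    · rw [shear_TS_BC ρ hassoc hbij hDs]
      let M := (TS B (Algebra.adjoin k (F : Set B))).map (shear ρ)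
      have h1 : D ≤ M.comap (Algebra.TensorProduct.includeLeft : A →ₐ[k] A ⊗[k] B) := by
        rw [← hG]
        refine Algebra.adjoin_le fun g hg => ⟨∑ i ∈ Z g hg, i.1 ⊗ₜ i.2, ?_, hZ' g hg⟩
        refine Subalgebra.sum_mem _ fun i hi => ?_
        exact ⟨(⟨i.1, Algebra.subset_adjoin (Finset.mem_insert_of_mem
          (Finset.mem_biUnion.2 ⟨⟨g, hg⟩, Finset.mem_attach _ _, Finset.mem_image_of_mem _ hi⟩))⟩ :
            Algebra.adjoin k (F : Set B)) ⊗ₜ i.2, rfl⟩
      rintro _ ⟨z, rfl⟩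
      induction z using TensorProduct.induction_on with
      | zero => simp
      | tmul d b =>
        have : Algebra.TensorProduct.map D.val (AlgHom.id k B) (d ⊗ₜ b) =
            ((d : A) ⊗ₜ[k] (1 : B)) * shear ρ ((1 : B) ⊗ₜ b) := by simp [shear_tmul]
        show Algebra.TensorProduct.map D.val (AlgHom.id k B) (d ⊗ₜ b) ∈ M
        rw [this]
        refine mul_mem (h1 d.2) ⟨_, ⟨(1 : Algebra.adjoin k (F : Set B)) ⊗ₜ b, ?_⟩, rfl⟩
        simp
      | add x y hx hy => simp only [map_add]; exact add_mem hx hy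
  · rintro _ _ ⟨C, hC, rfl⟩ ⟨D, hD, rfl⟩
    refine ⟨C ⊔ D, isSubHopf_sup hC hD, le_antisymm (sup_le (hmono le_sup_left) (hmono le_sup_right)) (hI ?_)⟩
    rw [shear_TS_BC ρ hassoc hbij (isSubHopf_sup hC hD)]
    refine (TS_sup_le C D).trans (sup_le ?_ ?_)
    · rw [← shear_TS_BC ρ hassoc hbij hC]; exact Subalgebra.map_mono (TS_mono le_sup_left)
    · rw [← shear_TS_BC ρ hassoc hbij hD]; exact Subalgebra.map_mono (TS_mono le_sup_right)
  · intro ι _ K hK hP
    choose C hC hCK using hP
    have hdir : Directed (· ≤ ·) C := fun i j => by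
      obtain ⟨l, h1, h2⟩ := hK i j
      rw [hCK, hCK] at h1 h2
      exact ⟨l, hrefl (hC i) (hC l) h1, hrefl (hC j) (hC l) h2⟩
    refine ⟨iSup C, isSubHopf_iSup C hdir hC, le_antisymm (iSup_le fun i => (hCK i).le.trans (hmono (le_iSup C i))) ?_⟩
    intro b hb
    obtain ⟨z, hz⟩ : ρ b ∈ TS B (iSup C) := hb
    have : ∀ z : ↥(iSup C) ⊗[k] B, ∃ i, Algebra.TensorProduct.map (iSup C).val (AlgHom.id k B) z ∈ TS B (C i) := by
      intro z
      induction z using TensorProduct.induction_on with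
      | zero => exact ⟨Classical.arbitrary ι, by simp⟩
      | tmul c b =>
        have hc : (c : A) ∈ (iSup C : Subalgebra k A) := c.2
        rw [← SetLike.mem_coe, Subalgebra.coe_iSup_of_directed hdir, Set.mem_iUnion] at hc
        obtain ⟨i, hi⟩ := hc
        exact ⟨i, (⟨c, hi⟩ : C i) ⊗ₜ b, rfl⟩
      | add x y hx hy =>
        obtain ⟨i, hi⟩ := hx
        obtain ⟨j, hj⟩ := hy
        obtain ⟨l, h1, h2⟩ := hdir i j
        exact ⟨l, by rw [map_add]; exact add_mem (TS_mono h1 hi) (TS_mono h2 hj)⟩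
    obtain ⟨i, hi⟩ := this z
    have hi' : b ∈ BC ρ (C i) := show ρ b ∈ TS B (C i) from hz ▸ hi
    exact le_iSup K i (hCK i ▸ hi')

end torsor

end Groth.Agent.HopfPoint
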